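import Groth.Agent.Lib.PurityExt25.Glue
import Groth.Agent.Lib.EffDesc25.Spread
import Groth.Agent.Lib.LimH13.NhdLimit
import Groth.Agent.Lib.LimH13.Descend
import Mathlib.Topology.NoetherianSpace

/-!
# Extension of finite étale covers over an open with pure complement
-/

set_option autoImplicit false
set_option backward.isDefEq.respectTransparency false
set_option backward.isDefEq.respectTransparency.types false
set_option linter.style.haveILetI false
universe u

open CategoryTheory CategoryTheory.Limits AlgebraicGeometry TopologicalSpace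

namespace Groth.Agent.PurityExt25

open Groth.Agent.LimH13 Groth.Agent.Descend

/-- A finite étale cover extends over a neighbourhood of a point over whose local scheme it extends. -/
theorem exists_extend_step_of_extends {X : Scheme.{u}} [IsNoetherian X] (G : X.Opens) (x : X) (hx : x ∉ G)
    (hgen : ∀ y : X, y ⤳ x → y ≠ x → y ∈ G)
    {E : Scheme.{u}} (e : E ⟶ (G : Scheme.{u})) [IsFinite e] [Etale e]
    (hC : ∀ (ρ : (FEt.puncturedSpec (X.presheaf.stalk x) : Scheme.{u}) ⟶ (G : Scheme.{u})),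
      ρ ≫ G.ι = (FEt.puncturedSpec (X.presheaf.stalk x)).ι ≫ X.fromSpecStalk x →
      ∃ C : FEt.Cat (Spec (X.presheaf.stalk x)), Nonempty
        ((FEt.restrict (FEt.puncturedSpec (X.presheaf.stalk x)).ι).obj C ≅
          (FEt.restrict ρ).obj (MorphismProperty.Over.mk ⊤ e ⟨inferInstance, inferInstance⟩))) :
    ∃ (B : X.Opens) (Z : Scheme.{u}) (h : Z ⟶ ((G ⊔ B : X.Opens) : Scheme.{u})) (inE : E ⟶ Z),
      x ∈ B ∧ IsFinite h ∧ Etale h ∧ IsPullback inE e h (X.homOfLE le_sup_left) := by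
  let j := X.fromSpecStalk x
  let P₀ := FEt.puncturedSpec (X.presheaf.stalk x)
  have hjc : j (IsLocalRing.closedPoint (X.presheaf.stalk x)) = x := Scheme.fromSpecStalk_closedPoint
  have hjG : ∀ q : Spec (X.presheaf.stalk x), j q ∈ G ↔ q ∈ P₀ := by
    intro q
    constructor
    · intro hq hqc
      have hqe : q = IsLocalRing.closedPoint (X.presheaf.stalk x) := hqc
      rw [hqe, hjc] at hq
      exact hx hq
    · intro hq
      refine hgen _ ?_ fun h => hq (j.isEmbedding.injective (h.trans hjc.symm))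
      have hm : j q ∈ Set.range j := ⟨q, rfl⟩
      rw [Scheme.range_fromSpecStalk] at hm
      exact hm
  have hρ : Set.range (P₀.ι ≫ j) ⊆ Set.range G.ι := by
    rintro _ ⟨q, rfl⟩
    rw [Scheme.Opens.range_ι]
    exact (hjG _).2 q.2
  let ρ : (P₀ : Scheme.{u}) ⟶ G := IsOpenImmersion.lift G.ι (P₀.ι ≫ j) hρ
  have hρι : ρ ≫ G.ι = P₀.ι ≫ j := IsOpenImmersion.lift_fac _ _ _
  have hsqρ : IsPullback ρ P₀.ι G.ι j := by
    refine IsOpenImmersion.isPullback _ _ _ _ hρι.symm ?_
    rw [Scheme.Opens.opensRange_ι, Scheme.Opens.opensRange_ι]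
    ext q
    exact hjG q
  -- the extension over the local scheme
  let E₀ : FEt.Cat (P₀ : Scheme.{u}) := MorphismProperty.Over.mk ⊤ (pullback.snd e ρ)
    ⟨MorphismProperty.pullback_snd _ _ inferInstance, MorphismProperty.pullback_snd _ _ inferInstance⟩
  obtain ⟨C, ⟨eC₀⟩⟩ := hC ρ hρι
  let eC : (FEt.restrict P₀.ι).obj C ≅ E₀ := eC₀
  let el : pullback C.hom P₀.ι ≅ pullback e ρ :=
    { hom := eC.hom.left, inv := eC.inv.left
      hom_inv_id := congrArg (fun z => z.left) eC.hom_inv_id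
      inv_hom_id := congrArg (fun z => z.left) eC.inv_hom_id }
  have hel : el.hom ≫ pullback.snd e ρ = pullback.snd C.hom P₀.ι := Over.w eC.hom.hom
  haveI hCf : IsFinite C.hom := C.prop.1
  haveI hCe : Etale C.hom := C.prop.2
  -- the system of neighbourhoods
  obtain ⟨_, ⟨V₀, hV₀, rfl⟩, hxV, -⟩ :=
    X.isBasis_affineOpens.exists_subset_of_mem_open (Set.mem_univ x) isOpen_univ
  let V : X.affineOpens := ⟨V₀, hV₀⟩
  let I := (Nhd.Idx x V)ᵒᵖ
  haveI := Nhd.isDirected x V
  haveI : Nonempty (Nhd.Idx x V) :=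
    ⟨⟨1, by rw [Scheme.basicOpen_of_isUnit _ isUnit_one]; exact hxV⟩⟩
  haveI : IsFiltered (Nhd.Idx x V) := isFiltered_of_directed_le_nonempty _
  let D := Nhd.diag x V
  haveI : ∀ {i j : I} (m : i ⟶ j), IsAffineHom (D.map m) := fun m => Nhd.isAffineHom_map x V m
  haveI haff : ∀ i : I, IsAffine (D.obj i) := fun i => V.2.basicOpen _
  haveI : ∀ i : I, QuasiSeparatedSpace (D.obj i) := fun i => inferInstance
  let c := Nhd.cone x V
  have hc : IsLimit c := Nhd.isLimit x V hxV
  let CT : C.left ⟶ Spec (X.presheaf.stalk x) := C.hom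
  haveI : IsFinite CT := hCf
  haveI : CompactSpace C.left := QuasiCompact.compactSpace_of_compactSpace CT
  haveI : QuasiSeparatedSpace C.left := quasiSeparatedSpace_of_quasiSeparated CT
  let C' : C.left ⟶ c.pt := C.hom
  haveI : Etale C' := hCe
  haveI : IsFinite C' := hCf
  obtain ⟨i₀, P₁, π₁, q₁, hπ₁, hP₁c, hP₁q, hsq₁⟩ := EffDesc25.exists_etale_model hc C'
  haveI := hπ₁; haveI := hP₁c; haveI := hP₁q
  haveI : ∀ k, IsAffineHom ((overT D i₀).app k) := fun k => Nhd.isAffineHom_map x V k.hom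
  haveI : QuasiCompact π₁ :=
    haveI : QuasiCompact (π₁ ≫ (D.obj i₀).toSpecΓ) := (quasiCompact_iff_compactSpace _).2 inferInstance
    QuasiCompact.of_comp π₁ (D.obj i₀).toSpecΓ
  haveI : QuasiSeparated π₁ :=
    haveI : QuasiSeparated (π₁ ≫ (D.obj i₀).toSpecΓ) :=
      (HasAffineProperty.iff_of_isAffine (P := @QuasiSeparated)).2 inferInstance
    QuasiSeparated.of_comp π₁ (D.obj i₀).toSpecΓ
  obtain ⟨k, hk⟩ := LimH13.exists_isFinite (t := overT D i₀) (f := π₁)
    (c := c.whisker (Over.forget i₀))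
    ((Functor.Initial.isLimitWhiskerEquiv (Over.forget i₀) c).symm hc) (fun k => c.w k.hom) hsq₁
  obtain ⟨q, -, hsq⟩ := isPullback_map_stage k.hom hsq₁
  let i := k.left
  let P := pullback π₁ (D.map k.hom)
  let π : P ⟶ D.obj i := pullback.snd π₁ (D.map k.hom)
  haveI : IsFinite π := hk
  haveI : Etale π := MorphismProperty.pullback_snd _ _ hπ₁
  -- two models over the trace of the open on a stage
  let Bi : X.Opens := X.basicOpen i.unop.1
  let ιi : D.obj i ⟶ X := Bi.ι
  have hιi : c.π.app i ≫ ιi = j := Scheme.Opens.fromSpecStalkOfMem_ι _ _ i.unop.2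
  let Gi := pullback G.ι ιi
  let w : Gi ⟶ D.obj i := pullback.snd G.ι ιi
  haveI : NoetherianSpace (D.obj i) := ιi.isOpenEmbedding.isInducing.noetherianSpace
  haveI : CompactSpace Gi :=
    haveI : NoetherianSpace Gi := w.isOpenEmbedding.isInducing.noetherianSpace
    inferInstance
  haveI : QuasiSeparatedSpace Gi :=
    haveI : NoetherianSpace Gi := w.isOpenEmbedding.isInducing.noetherianSpace
    ⟨fun U V _ _ _ _ => NoetherianSpace.isCompact (U ∩ V)⟩
  let Xi := pullback π w
  let Yi := pullback e (pullback.fst G.ι ιi)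
  let xi : Xi ⟶ D.obj i := pullback.snd π w ≫ w
  let yi : Yi ⟶ D.obj i := pullback.snd e (pullback.fst G.ι ιi) ≫ w
  haveI : LocallyOfFinitePresentation (pullback.snd π w) :=
    MorphismProperty.pullback_snd _ _ inferInstance
  haveI : LocallyOfFinitePresentation (pullback.snd e (pullback.fst G.ι ιi)) :=
    MorphismProperty.pullback_snd _ _ inferInstance
  obtain ⟨hXc, hXq⟩ := EffDesc25.compactSpace_qs_pullback π w
  obtain ⟨hYc, hYq⟩ := EffDesc25.compactSpace_qs_pullback e (pullback.fst G.ι ιi)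
  have eG : ρ ≫ G.ι = (P₀.ι ≫ c.π.app i) ≫ ιi := by rw [hρι, Category.assoc, hιi]
  let sG : (P₀ : Scheme.{u}) ⟶ Gi := pullback.lift ρ (P₀.ι ≫ c.π.app i) eG
  have hsG : IsPullback sG P₀.ι w (c.π.app i) := by
    refine IsPullback.of_right ?_ (pullback.lift_snd _ _ _) (IsPullback.of_hasPullback G.ι ιi)
    rw [pullback.lift_fst, hιi]
    exact hsqρ
  let qX : pullback C.hom P₀.ι ⟶ Xi := pullback.lift (pullback.fst C.hom P₀.ι ≫ q)
    (pullback.snd C.hom P₀.ι ≫ sG) (by
      rw [Category.assoc, Category.assoc, hsq.w, hsG.w]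
      exact pullback.condition_assoc _)
  have hX : IsPullback qX (pullback.snd C.hom P₀.ι ≫ P₀.ι) xi (c.π.app i) := by
    refine IsPullback.paste_vert ?_ hsG
    refine IsPullback.of_right ?_ (pullback.lift_snd _ _ _) (IsPullback.of_hasPullback π w)
    rw [pullback.lift_fst]
    have h1 := (IsPullback.of_hasPullback C.hom P₀.ι).paste_horiz hsq
    rwa [show sG ≫ w = P₀.ι ≫ c.π.app i from hsG.w]
  let qY₀ : pullback e ρ ⟶ Yi := pullback.lift (pullback.fst e ρ) (pullback.snd e ρ ≫ sG) (by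
    rw [Category.assoc, pullback.lift_fst]
    exact pullback.condition)
  have hY₀ : IsPullback qY₀ (pullback.snd e ρ ≫ P₀.ι) yi (c.π.app i) := by
    refine IsPullback.paste_vert ?_ hsG
    refine IsPullback.of_right ?_ (pullback.lift_snd _ _ _)
      (IsPullback.of_hasPullback e (pullback.fst G.ι ιi))
    rw [pullback.lift_fst, pullback.lift_fst]
    exact IsPullback.of_hasPullback e ρ
  have hY : IsPullback (el.hom ≫ qY₀) (pullback.snd C.hom P₀.ι ≫ P₀.ι) yi (c.π.app i) := by
    refine hY₀.of_iso el.symm (Iso.refl _) (Iso.refl _) (Iso.refl _) (by simp) ?_ (by simp) (by simp)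
    simp only [Iso.symm_hom, Iso.refl_hom, Category.comp_id]
    rw [← hel]
    simp
  obtain ⟨l, φ, W, zx, zy, z, -, -, hzx, hzy, -, -, -⟩ := exists_common_model hc i xi yi hX hY
  let B : X.Opens := X.basicOpen l.unop.1
  let ιl : D.obj l ⟶ X := B.ι
  have hφ : D.map φ ≫ ιi = ιl := by
    show X.homOfLE ((Nhd.le_iff x V).1 φ.unop.le) ≫ Bi.ι = _
    exact Scheme.homOfLE_ι _ _
  haveI : IsOpenImmersion (D.map φ) :=
    haveI : IsOpenImmersion (D.map φ ≫ ιi) := by rw [hφ]; infer_instance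
    IsOpenImmersion.of_comp (D.map φ) ιi
  let p : pullback π (D.map φ) ⟶ D.obj l := pullback.snd π (D.map φ)
  haveI : IsFinite p := MorphismProperty.pullback_snd _ _ inferInstance
  haveI : Etale p := MorphismProperty.pullback_snd _ _ inferInstance
  -- the comparison maps
  let jE : W ⟶ E := zy ≫ pullback.fst e (pullback.fst G.ι ιi)
  have hjE : IsPullback jE z (e ≫ G.ι) ιl := by
    have h1 : IsPullback (pullback.fst e (pullback.fst G.ι ιi)) yi (e ≫ G.ι) ιi :=
      (IsPullback.of_hasPullback e (pullback.fst G.ι ιi)).paste_vert (IsPullback.of_hasPullback G.ι ιi)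
    have h2 := hzy.paste_horiz h1
    rwa [hφ] at h2
  haveI : IsOpenImmersion jE := MorphismProperty.of_isPullback hjE.flip inferInstance
  let jP : W ⟶ pullback π (D.map φ) := pullback.lift (zx ≫ pullback.fst π w) z (by
    rw [Category.assoc, pullback.condition, ← hzx.w])
  have hjP : IsPullback zx jP (pullback.fst π w) (pullback.fst π (D.map φ)) := by
    refine IsPullback.of_bot ?_ (pullback.lift_fst _ _ _).symm (IsPullback.of_hasPullback π (D.map φ))
    rw [pullback.lift_snd, pullback.condition]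
    exact hzx
  haveI : IsOpenImmersion jP := MorphismProperty.of_isPullback hjP inferInstance
  have hw : jE ≫ e ≫ G.ι = jP ≫ p ≫ ιl := by
    show jE ≫ e ≫ G.ι = jP ≫ p ≫ ιl
    rw [hjE.w, pullback.lift_snd_assoc]
  have hE : ∀ y : E, (e ≫ G.ι) y ∈ B → y ∈ Set.range jE := by
    intro y hy
    obtain ⟨b, hb⟩ : (e ≫ G.ι) y ∈ Set.range ιl := by
      show _ ∈ Set.range B.ι
      rw [Scheme.Opens.range_ι]; exact hy
    obtain ⟨u, hu, -⟩ := Scheme.exists_preimage_of_isPullback hjE y b hb.symm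
    exact ⟨u, hu⟩
  have hPj : ∀ y : ↥(pullback π (D.map φ)), (p ≫ ιl) y ∈ G → y ∈ Set.range jP := by
    intro y hy
    have hy' : pullback.fst π (D.map φ) y ∈ Set.range (pullback.fst π w) := by
      rw [Scheme.Pullback.range_fst, Set.mem_preimage]
      obtain ⟨g, hg⟩ : (p ≫ ιl) y ∈ Set.range G.ι := by rw [Scheme.Opens.range_ι]; exact hy
      have he : ιi (π (pullback.fst π (D.map φ) y)) = G.ι g := by
        rw [hg, ← Scheme.Hom.comp_apply, ← Scheme.Hom.comp_apply, pullback.condition_assoc, hφ]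
      obtain ⟨u, -, hu⟩ := Scheme.Pullback.exists_preimage_pullback g
        (π (pullback.fst π (D.map φ) y)) he.symm
      exact ⟨u, hu⟩
    obtain ⟨a, ha⟩ := hy'
    obtain ⟨u, -, hu⟩ := Scheme.exists_preimage_of_isPullback hjP a y ha
    exact ⟨u, hu⟩
  obtain ⟨Z, h, inE, h1, h2, h3⟩ := exists_glue G B e p jE jP hw hE hPj
  exact ⟨B, Z, h, inE, l.unop.2, h1, h2, h3⟩

/-- A finite étale cover extends over a neighbourhood of a point at which purity holds. -/
theorem exists_extend_step {X : Scheme.{u}} [IsNoetherian X] (G : X.Opens) (x : X) (hx : x ∉ G)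
    (hgen : ∀ y : X, y ⤳ x → y ≠ x → y ∈ G) (hP : FEt.PurityHolds (X.presheaf.stalk x))
    {E : Scheme.{u}} (e : E ⟶ (G : Scheme.{u})) [IsFinite e] [Etale e] :
    ∃ (B : X.Opens) (Z : Scheme.{u}) (h : Z ⟶ ((G ⊔ B : X.Opens) : Scheme.{u})) (inE : E ⟶ Z),
      x ∈ B ∧ IsFinite h ∧ Etale h ∧ IsPullback inE e h (X.homOfLE le_sup_left) :=
  exists_extend_step_of_extends G x hx hgen e fun ρ _ =>
    haveI : (FEt.restrict (FEt.puncturedSpec (X.presheaf.stalk x)).ι).EssSurj := hP
    ⟨_, ⟨(FEt.restrict (FEt.puncturedSpec (X.presheaf.stalk x)).ι).objObjPreimageIso _⟩⟩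

/-- Finite étale covers of an open extend when purity holds at every point of the complement. -/
theorem exists_extension {X : Scheme.{u}} [IsNoetherian X] (U : X.Opens)
    (hP : ∀ x : X, x ∉ U → FEt.PurityHolds (X.presheaf.stalk x))
    {W : Scheme.{u}} (w : W ⟶ (U : Scheme.{u})) [IsFinite w] [Etale w] :
    ∃ (E : Scheme.{u}) (h : E ⟶ X) (t : W ⟶ E), IsFinite h ∧ Etale h ∧ IsPullback t w h U.ι := by
  let S : Set X.Opens := {G | ∃ (hle : U ≤ G) (E : Scheme.{u}) (h : E ⟶ (G : Scheme.{u})) (t : W ⟶ E),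
    IsFinite h ∧ Etale h ∧ IsPullback t w h (X.homOfLE hle)}
  have hne : S.Nonempty := ⟨U, le_rfl, W, w, 𝟙 W, inferInstance, inferInstance, by
    rw [Scheme.homOfLE_rfl]
    exact IsPullback.of_horiz_isIso ⟨by simp⟩⟩
  obtain ⟨G, ⟨hle, E, e, t, he1, he2, het⟩, hmax⟩ :=
    (wellFounded_gt (α := X.Opens)).has_min S hne
  haveI := he1; haveI := he2
  by_cases hG : G = ⊤
  · haveI : IsIso G.ι := by
      rw [hG]
      exact inferInstanceAs (IsIso X.topIso.hom)
    refine ⟨E, e ≫ G.ι, t, inferInstance, inferInstance, ?_⟩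
    have h1 := het.paste_vert (IsPullback.of_vert_isIso
      (fst := X.homOfLE hle) (snd := 𝟙 (U : Scheme.{u})) (f := G.ι) (g := U.ι) ⟨by simp⟩)
    rwa [Category.comp_id] at h1
  exfalso
  obtain ⟨y, hy⟩ : ∃ y : X, y ∉ G := by
    by_contra hcon
    push Not at hcon
    exact hG (eq_top_iff.2 fun y _ => hcon y)
  let Cc : Set X := (G : Set X)ᶜ
  have hC : IsClosed Cc := G.2.isClosed_compl
  haveI : QuasiSober Cc := hC.isClosedEmbedding_subtypeVal.quasiSober
  let y' : Cc := ⟨y, hy⟩
  let η := (isIrreducible_irreducibleComponent (x := y')).genericPoint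
  have hgp : IsGenericPoint η (irreducibleComponent y') := by
    have := (isIrreducible_irreducibleComponent (x := y')).isGenericPoint_genericPoint_closure
    rwa [isClosed_irreducibleComponent.closure_eq] at this
  have hηG : (η : X) ∉ G := η.2
  have hgen : ∀ z : X, z ⤳ η.1 → z ≠ η.1 → z ∈ G := by
    intro z hz hne'
    by_contra hzG
    let z' : Cc := ⟨z, hzG⟩
    have hz' : z' ⤳ η := (Topology.IsInducing.subtypeVal.specializes_iff).1 hz
    have hsub : irreducibleComponent y' ⊆ closure {z'} := by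
      rw [← hgp.def]
      exact specializes_iff_closure_subset.1 hz'
    have heq : closure {z'} = irreducibleComponent y' :=
      eq_irreducibleComponent isIrreducible_singleton.closure.isPreirreducible hsub
    have hz'' : η ⤳ z' := specializes_iff_closure_subset.2 (by rw [hgp.def, heq])
    have hback : η.1 ⤳ z := (Topology.IsInducing.subtypeVal.specializes_iff).2 hz''
    exact hne' ((hz.antisymm hback).eq)
  obtain ⟨B, Z, h, inE, hηB, hh1, hh2, hpb⟩ := exists_extend_step G η.1 hηG hgen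
    (hP _ fun hU => hηG (hle hU)) e
  refine hmax (G ⊔ B) ⟨hle.trans le_sup_left, Z, h, t ≫ inE, hh1, hh2, ?_⟩
    (lt_of_le_of_ne le_sup_left fun hEq => hηG (hEq.ge (Or.inr hηB)))
  have := het.paste_horiz hpb
  rwa [Scheme.homOfLE_homOfLE] at this

/-- Restriction to an open with pure complement is essentially surjective. -/
theorem essSurj_restrict {X : Scheme.{u}} [IsNoetherian X] (U : X.Opens)
    (hP : ∀ x : X, x ∉ U → FEt.PurityHolds (X.presheaf.stalk x)) : (FEt.restrict U.ι).EssSurj := by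
  refine ⟨fun Y => ?_⟩
  haveI : IsFinite Y.hom := Y.prop.1
  haveI : Etale Y.hom := Y.prop.2
  obtain ⟨E, h, t, h1, h2, hsq⟩ := exists_extension U hP Y.hom
  refine ⟨MorphismProperty.Over.mk ⊤ h ⟨h1, h2⟩, ⟨MorphismProperty.Over.isoMk hsq.isoPullback.symm ?_⟩⟩
  rw [Iso.symm_hom]
  exact hsq.isoPullback_inv_snd

end Groth.Agent.PurityExt25
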