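import Groth.Agent.Lib.PurityExt25.Main
import Groth.Agent.Lib.RelPure25.GlueLocal
import Groth.Agent.Lib.FEtEq25.Graph
import Groth.Agent.Lib.FEtEq25.Points
import Groth.Agent.Lib.Disc25.NormalScheme
import Groth.Agent.Lib.UnibrConn6.Scheme
import Groth.Agent.Lib.FlatH4.GenPt
import Groth.Agent.Lib.RegLoc.Basic
import Groth.Agent.S0065
import Groth.Agent.S0247

/-!
# Extension of covers which extend in codimension one over a regular complement
-/

set_option autoImplicit false
set_option backward.isDefEq.respectTransparency false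
set_option backward.isDefEq.respectTransparency.types false
set_option linter.style.haveILetI false
universe u

open CategoryTheory CategoryTheory.Limits AlgebraicGeometry TopologicalSpace

noncomputable section

namespace Groth.Agent.PurityExt25

/-- Restriction to a dense open with regular complement is fully faithful. -/
theorem fullFaithful_of_regular {X : Scheme.{u}} [IsLocallyNoetherian X] (U : X.Opens)
    (hU : Dense (U : Set X)) (hreg : ∀ x : X, x ∉ U → IsRegularLocalRing (X.presheaf.stalk x)) :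
    (FEt.restrict U.ι).Full ∧ (FEt.restrict U.ι).Faithful := by
  have hT : ∀ T : Set X, IsClopen T → T.Nonempty → (T ∩ Set.range U.ι).Nonempty := fun T hT hne => by
    rw [Scheme.Opens.range_ι]
    exact hU.inter_open_nonempty T hT.2 hne
  refine ⟨FEtEq25.full_restrict _ hT fun {Z} h hh C hC => ?_, FEtEq25.faithful_restrict _ hT⟩
  haveI : IsFinite h := hh.1
  haveI : Etale h := hh.2
  haveI : IsLocallyNoetherian Z := LocallyOfFiniteType.isLocallyNoetherian h
  let a := pullback.fst h U.ι
  have hr : Set.range a = h ⁻¹' (U : Set X) := by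
    rw [← Scheme.Opens.range_ι U]; exact Scheme.Pullback.range_fst h U.ι
  let C₁ : Z.Opens := ⟨a '' C, a.isOpenEmbedding.isOpenMap _ hC.2⟩
  let C₂ : Z.Opens := ⟨a '' Cᶜ, a.isOpenEmbedding.isOpenMap _ hC.1.isOpen_compl⟩
  have hun : (C₁ : Set Z) ∪ C₂ = h ⁻¹' (U : Set X) := by
    rw [← hr, ← Set.image_univ, ← Set.union_compl_self C, Set.image_union]; rfl
  have hcl : closure (C₁ : Set Z) ∪ closure (C₂ : Set Z) = Set.univ := by
    rw [← closure_union, hun]
    exact (hU.preimage h.isOpenMap).closure_eq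
  have hdisj : ∀ z, z ∈ closure (C₁ : Set Z) → z ∉ closure (C₂ : Set Z) := by
    intro z h1 h2
    obtain ⟨y₁, hy₁, hs₁⟩ := UnibrConn6.exists_specializes_of_mem_closure C₁ z h1
    obtain ⟨y₂, hy₂, hs₂⟩ := UnibrConn6.exists_specializes_of_mem_closure C₂ z h2
    have hne : ∀ y, y ∈ C₁ → y ∉ C₂ := by
      rintro _ ⟨c, hc, rfl⟩ ⟨d, hd, he⟩
      exact hd (a.isOpenEmbedding.injective he ▸ hc)
    by_cases hz : h z ∈ U
    · rcases (hun.ge hz : z ∈ (C₁ : Set Z) ∪ C₂) with hz' | hz'
      · exact hne z hz' (by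
          obtain ⟨w, hw1, hw2⟩ := mem_closure_iff.1 h2 _ C₁.2 hz'
          exact absurd hw2 (hne w hw1))
      · obtain ⟨w, hw1, hw2⟩ := mem_closure_iff.1 h1 _ C₂.2 hz'
        exact hne w hw2 hw1
    · haveI : IsRegularLocalRing (Z.presheaf.stalk z) := (S0065.result h z).2 (hreg _ hz)
      haveI := RegLoc.isDomain (Z.presheaf.stalk z)
      let p : Spec (Z.presheaf.stalk z) := (⟨⊥, Ideal.isPrime_bot⟩ : PrimeSpectrum (Z.presheaf.stalk z))
      have hgen : ∀ y, y ⤳ z → Z.fromSpecStalk z p ⤳ y := by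
        intro y hy
        obtain ⟨q, rfl⟩ : y ∈ Set.range (Z.fromSpecStalk z) := by rw [Scheme.range_fromSpecStalk]; exact hy
        exact Specializes.map ((PrimeSpectrum.le_iff_specializes
          (⟨⊥, Ideal.isPrime_bot⟩ : PrimeSpectrum (Z.presheaf.stalk z)) q).1 bot_le)
          (Z.fromSpecStalk z).continuous
      exact hne _ ((hgen y₁ hs₁).mem_open C₁.2 hy₁) ((hgen y₂ hs₂).mem_open C₂.2 hy₂)
  refine ⟨closure (C₁ : Set Z), ⟨isClosed_closure, ?_⟩, ?_⟩
  · have : closure (C₁ : Set Z) = (closure (C₂ : Set Z))ᶜ := Set.ext fun z =>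
      ⟨hdisj z, fun hz => (hcl.ge (Set.mem_univ z) : z ∈ _ ∪ _).resolve_right hz⟩
    rw [this]
    exact isClosed_closure.isOpen_compl
  · ext c
    refine ⟨fun hc => by_contra fun hcC => hdisj _ hc (subset_closure ⟨c, hcC, rfl⟩),
      fun hc => subset_closure ⟨c, hc, rfl⟩⟩

/-- A finite étale cover of an open extends when it extends step by step. -/
theorem exists_extension_of_steps {X : Scheme.{u}} [IsNoetherian X] (U : X.Opens) (W : FEt.Cat (U : Scheme.{u}))
    (hstep : ∀ (G : X.Opens) (hle : U ≤ G) (E : FEt.Cat (G : Scheme.{u})),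
      Nonempty ((FEt.restrict (X.homOfLE hle)).obj E ≅ W) →
      ∀ η : X, η ∉ G → (∀ y : X, y ⤳ η → y ≠ η → y ∈ G) →
      ∀ (ρ : (FEt.puncturedSpec (X.presheaf.stalk η) : Scheme.{u}) ⟶ (G : Scheme.{u})),
        ρ ≫ G.ι = (FEt.puncturedSpec (X.presheaf.stalk η)).ι ≫ X.fromSpecStalk η →
        ∃ C : FEt.Cat (Spec (X.presheaf.stalk η)), Nonempty
          ((FEt.restrict (FEt.puncturedSpec (X.presheaf.stalk η)).ι).obj C ≅ (FEt.restrict ρ).obj E)) :
    ∃ Y : FEt.Cat X, Nonempty ((FEt.restrict U.ι).obj Y ≅ W) := by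
  let S : Set X.Opens := {G | ∃ (hle : U ≤ G) (E : Scheme.{u}) (h : E ⟶ (G : Scheme.{u})) (t : W.left ⟶ E),
    IsFinite h ∧ Etale h ∧ IsPullback t W.hom h (X.homOfLE hle)}
  have hne : S.Nonempty := ⟨U, le_rfl, W.left, W.hom, 𝟙 W.left, W.prop.1, W.prop.2, by
    rw [Scheme.homOfLE_rfl]
    haveI : IsIso (𝟙 (U : Scheme.{u})) := IsIso.id _
    exact @IsPullback.of_horiz_isIso _ _ _ _ _ _ _ _ _ _ (IsIso.id _) (IsIso.id _) ⟨by simp⟩⟩
  obtain ⟨G, ⟨hle, E, e, t, he1, he2, het⟩, hmax⟩ :=
    (wellFounded_gt (α := X.Opens)).has_min S hne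
  haveI := he1; haveI := he2
  by_cases hG : G = ⊤
  · haveI : IsIso G.ι := by
      rw [hG]
      exact inferInstanceAs (IsIso X.topIso.hom)
    haveI : Etale (e ≫ G.ι) := inferInstance
    haveI : IsFinite (e ≫ G.ι) := inferInstance
    have hsq : IsPullback t W.hom (e ≫ G.ι) U.ι := by
      have h1 := het.paste_vert (IsPullback.of_vert_isIso
        (fst := X.homOfLE hle) (snd := 𝟙 (U : Scheme.{u})) (f := G.ι) (g := U.ι) ⟨by simp⟩)
      simpa using h1
    refine ⟨MorphismProperty.Over.mk ⊤ (e ≫ G.ι) ⟨inferInstance, inferInstance⟩,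
      ⟨MorphismProperty.Over.isoMk hsq.isoPullback.symm ?_⟩⟩
    rw [Iso.symm_hom]
    exact hsq.isoPullback_inv_snd
  exfalso
  obtain ⟨y, hy⟩ : ∃ y : X, y ∉ G := by
    by_contra hcon
    push Not at hcon
    exact hG (eq_top_iff.2 fun y _ => hcon y)
  let Cc : Set X := (G : Set X)ᶜ
  have hC : IsClosed Cc := G.2.isClosed_compl
  haveI : QuasiSober Cc := hC.isClosedEmbedding_subtypeVal.quasiSober
  let y' : Cc := ⟨y, hy⟩
  let η := (isIrreducible_irreducibleComponent (x := y')).genericPoint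
  have hgp : IsGenericPoint η (irreducibleComponent y') := by
    have := (isIrreducible_irreducibleComponent (x := y')).isGenericPoint_genericPoint_closure
    rwa [isClosed_irreducibleComponent.closure_eq] at this
  have hηG : (η : X) ∉ G := η.2
  have hgen : ∀ z : X, z ⤳ η.1 → z ≠ η.1 → z ∈ G := by
    intro z hz hne'
    by_contra hzG
    let z' : Cc := ⟨z, hzG⟩
    have hz' : z' ⤳ η := (Topology.IsInducing.subtypeVal.specializes_iff).1 hz
    have hsub : irreducibleComponent y' ⊆ closure {z'} := by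
      rw [← hgp.def]
      exact specializes_iff_closure_subset.1 hz'
    have heq : closure {z'} = irreducibleComponent y' :=
      eq_irreducibleComponent isIrreducible_singleton.closure.isPreirreducible hsub
    have hz'' : η ⤳ z' := specializes_iff_closure_subset.2 (by rw [hgp.def, heq])
    have hback : η.1 ⤳ z := (Topology.IsInducing.subtypeVal.specializes_iff).2 hz''
    exact hne' ((hz.antisymm hback).eq)
  have hiso : Nonempty ((FEt.restrict (X.homOfLE hle)).obj
      (MorphismProperty.Over.mk ⊤ e ⟨inferInstance, inferInstance⟩) ≅ W) :=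
    ⟨MorphismProperty.Over.isoMk het.isoPullback.symm het.isoPullback_inv_snd⟩
  obtain ⟨B, Z, h, inE, hηB, hh1, hh2, hpb⟩ := exists_extend_step_of_extends G η.1 hηG hgen e
    (hstep G hle _ hiso η.1 hηG hgen)
  refine hmax (G ⊔ B) ⟨hle.trans le_sup_left, Z, h, t ≫ inE, hh1, hh2, ?_⟩
    (lt_of_le_of_ne le_sup_left fun hEq => hηG (hEq.ge (Or.inr hηB)))
  have := het.paste_horiz hpb
  rwa [Scheme.homOfLE_homOfLE] at this

/-- A cover extending in codimension one at a regular complement extends, Noetherian case. -/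
theorem exists_extension_of_codim_one {X : Scheme.{u}} [IsNoetherian X] (U : X.Opens) (hU : Dense (U : Set X))
    (W : FEt.Cat (U : Scheme.{u}))
    (hreg : ∀ x : X, x ∉ U → IsRegularLocalRing (X.presheaf.stalk x))
    (hunr : ∀ η : X, η ∉ U → ringKrullDim (X.presheaf.stalk η) = 1 →
      ∃ C : FEt.Cat (Spec (X.presheaf.stalk η)),
        ∀ (ρ : (FEt.puncturedSpec (X.presheaf.stalk η) : Scheme.{u}) ⟶ (U : Scheme.{u})),
          ρ ≫ U.ι = (FEt.puncturedSpec (X.presheaf.stalk η)).ι ≫ X.fromSpecStalk η →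
          Nonempty ((FEt.restrict (FEt.puncturedSpec (X.presheaf.stalk η)).ι).obj C ≅ (FEt.restrict ρ).obj W)) :
    ∃ Y : FEt.Cat X, Nonempty ((FEt.restrict U.ι).obj Y ≅ W) := by
  refine exists_extension_of_steps U W fun G hle E hE η hη hgen ρ hρ => ?_
  have hηU : η ∉ U := fun h => hη (hle h)
  haveI := hreg η hηU
  haveI := RegLoc.isDomain (X.presheaf.stalk η)
  by_cases h1 : ringKrullDim (X.presheaf.stalk η) = 1
  · obtain ⟨C, hC⟩ := hunr η hηU h1
    obtain ⟨eE⟩ := hE
    have hmem : Set.range ((FEt.puncturedSpec (X.presheaf.stalk η)).ι ≫ X.fromSpecStalk η) ⊆ Set.range U.ι := by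
      rintro _ ⟨q, rfl⟩
      rw [Scheme.Opens.range_ι]
      refine FlatH4.IsMaxPt.mem_of_dense (fun y hy => ?_) U.2 hU
      have hq : q.1 ≠ IsLocalRing.closedPoint (X.presheaf.stalk η) := q.2
      have hyη : y ∈ Set.range (X.fromSpecStalk η) := by
        rw [Scheme.range_fromSpecStalk]
        refine hy.trans ?_
        have : X.fromSpecStalk η q.1 ∈ Set.range (X.fromSpecStalk η) := ⟨_, rfl⟩
        rwa [Scheme.range_fromSpecStalk] at this
      obtain ⟨r, rfl⟩ := hyη
      have hr : r ⤳ q.1 := (X.fromSpecStalk η).isEmbedding.isInducing.specializes_iff.1 hy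
      refine congrArg (X.fromSpecStalk η) (PrimeSpectrum.ext ?_)
      have hle' : r.asIdeal ≤ q.1.asIdeal := (PrimeSpectrum.le_iff_specializes r q.1).2 hr
      have hbot : q.1.asIdeal = ⊥ := by
        by_contra hne
        haveI : Ring.KrullDimLE 1 (X.presheaf.stalk η) := (Ring.krullDimLE_iff).2 h1.le
        exact hq (PrimeSpectrum.ext (IsLocalRing.eq_maximalIdeal
          (Ring.krullDimLE_one_iff_of_noZeroDivisors.1 inferInstance _ hne q.1.isPrime)))
      show r.asIdeal = q.1.asIdeal
      rw [hbot] at hle'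
      exact (le_bot_iff.1 hle').trans hbot.symm
    let ρU := IsOpenImmersion.lift U.ι _ hmem
    have hρU : ρU ≫ U.ι = (FEt.puncturedSpec (X.presheaf.stalk η)).ι ≫ X.fromSpecStalk η :=
      IsOpenImmersion.lift_fac _ _ _
    obtain ⟨eC⟩ := hC ρU hρU
    have hρeq : ρU ≫ X.homOfLE hle = ρ := by
      rw [← cancel_mono G.ι, Category.assoc, Scheme.homOfLE_ι, hρU, hρ]
    exact ⟨C, ⟨eC ≪≫ (FEt.restrict ρU).mapIso eE.symm ≪≫
      (Pur25.restrictComp ρU (X.homOfLE hle)).symm.app E ≪≫
      (MorphismProperty.Over.pullbackCongr hρeq).app E⟩⟩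
  · have h2 : (2 : WithBot ℕ∞) ≤ ringKrullDim (X.presheaf.stalk η) := by
      have h0 : ringKrullDim (X.presheaf.stalk η) ≠ 0 := by
        intro h0
        haveI : Ring.KrullDimLE 0 (X.presheaf.stalk η) := (Ring.krullDimLE_iff).2 h0.le
        refine hηU (FlatH4.IsMaxPt.mem_of_dense (fun y hy => ?_) U.2 hU)
        obtain ⟨r, rfl⟩ : y ∈ Set.range (X.fromSpecStalk η) := by rw [Scheme.range_fromSpecStalk]; exact hy
        rw [show r = IsLocalRing.closedPoint (X.presheaf.stalk η) from
          PrimeSpectrum.ext (IsLocalRing.eq_maximalIdeal inferInstance), Scheme.fromSpecStalk_closedPoint]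
      obtain ⟨n, hn⟩ : ∃ n : ℕ, ringKrullDim (X.presheaf.stalk η) = n := by
        obtain ⟨hb, ht⟩ := (finiteRingKrullDim_iff_ne_bot_and_top (R := X.presheaf.stalk η)).1 inferInstance
        revert hb ht
        generalize ringKrullDim (X.presheaf.stalk η) = d
        intro hb ht
        cases d with
        | bot => exact absurd rfl hb
        | coe a => cases a with
          | top => exact absurd rfl ht
          | coe n => exact ⟨n, rfl⟩
      rw [hn] at h0 h1 ⊢
      have : 2 ≤ n := by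
        rcases n with _ | _ | n
        · exact absurd rfl h0
        · exact absurd rfl h1
        · omega
      exact_mod_cast this
    haveI : (FEt.restrict (FEt.puncturedSpec (X.presheaf.stalk η)).ι).EssSurj := S0247.result _ h2
    exact ⟨_, ⟨(FEt.restrict (FEt.puncturedSpec (X.presheaf.stalk η)).ι).objObjPreimageIso _⟩⟩

end Groth.Agent.PurityExt25
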