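import Groth.Agent.Lib.PurityExt25.CodimOne
import Groth.Agent.Lib.RelPure25.Stalk
import Groth.Agent.Lib.RefHull26.Normal
import Groth.Agent.S0287
import Mathlib.AlgebraicGeometry.ValuativeCriterion

/-!
# Transport of finite étale covers along rational maps from regular to proper schemes
-/

set_option autoImplicit false
set_option backward.isDefEq.respectTransparency false
set_option backward.isDefEq.respectTransparency.types false
set_option linter.style.haveILetI false
universe u

open CategoryTheory CategoryTheory.Limits AlgebraicGeometry TopologicalSpace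

noncomputable section

namespace Groth.Agent.PurityExt25

/-- A finite étale cover of a proper scheme pulls back along a map from a dense open of a regular
scheme to a cover which extends to the whole scheme. -/
theorem exists_extension_along_rational_map {X Y S : Scheme.{u}} (g : X ⟶ S) (h : Y ⟶ S) [IsProper g]
    [IsLocallyNoetherian Y] (hY : ∀ y : Y, IsRegularLocalRing (Y.presheaf.stalk y))
    (V : Y.Opens) (hV : Dense (V : Set Y)) (e : (V : Scheme.{u}) ⟶ X) (he : e ≫ g = V.ι ≫ h)
    (W : FEt.Cat X) :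
    ∃ W' : FEt.Cat Y, Nonempty ((FEt.restrict V.ι).obj W' ≅ (FEt.restrict e).obj W) := by
  refine S0287.result V hV _ (fun y _ => hY y) fun ξ hξ hdim => ?_
  let O := Y.presheaf.stalk ξ
  haveI := hY ξ
  haveI : IsDomain O := RegLoc.isDomain O
  have hsp : (IsLocalRing.maximalIdeal O).spanFinrank = 1 := by
    have h1 : ((IsLocalRing.maximalIdeal O).spanFinrank : WithBot ℕ∞) = ringKrullDim O :=
      IsRegularLocalRing.spanFinrank_maximalIdeal (R := O)
    rw [show ringKrullDim O = 1 from hdim] at h1
    exact_mod_cast h1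
  haveI : IsDiscreteValuationRing O := RelPure25.isDiscreteValuationRing_of_regular O hsp
  let K := FractionRing O
  let ν : Spec (CommRingCat.of K) ⟶ Spec O := Spec.map (CommRingCat.ofHom (algebraMap O K))
  have hν : ∀ z, ν z = (⟨⊥, Ideal.isPrime_bot⟩ : PrimeSpectrum O) := fun z => by
    refine PrimeSpectrum.ext ?_
    show (z.asIdeal).comap (algebraMap O K) = ⊥
    have hz : z.asIdeal = ⊥ := (Ideal.eq_bot_or_top z.asIdeal).resolve_right z.isPrime.ne_top
    rw [hz, ← RingHom.ker_eq_comap_bot]
    exact (RingHom.injective_iff_ker_eq_bot _).1 (IsFractionRing.injective O K)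
  -- the generic point lies in the dense open
  have hmax : ∀ z, Y.fromSpecStalk ξ (ν z) ∈ V := by
    intro z
    refine FlatH4.IsMaxPt.mem_of_dense (fun y hy => ?_) V.2 hV
    obtain ⟨r, rfl⟩ : y ∈ Set.range (Y.fromSpecStalk ξ) := by
      rw [Scheme.range_fromSpecStalk]
      refine hy.trans ?_
      have : Y.fromSpecStalk ξ (ν z) ∈ Set.range (Y.fromSpecStalk ξ) := ⟨_, rfl⟩
      rwa [Scheme.range_fromSpecStalk] at this
    have hr : r ⤳ ν z := (Y.fromSpecStalk ξ).isEmbedding.isInducing.specializes_iff.1 hy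
    rw [hν z] at hr ⊢
    refine congrArg (Y.fromSpecStalk ξ) (PrimeSpectrum.ext ?_)
    exact le_bot_iff.1 ((PrimeSpectrum.le_iff_specializes r _).2 hr)
  let γ : Spec (CommRingCat.of K) ⟶ (V : Scheme.{u}) := IsOpenImmersion.lift V.ι (ν ≫ Y.fromSpecStalk ξ) (by
    rintro _ ⟨z, rfl⟩
    rw [Scheme.Opens.range_ι]
    exact hmax z)
  have hγ : γ ≫ V.ι = ν ≫ Y.fromSpecStalk ξ := IsOpenImmersion.lift_fac _ _ _
  have hsq : CommSq (γ ≫ e) ν g (Y.fromSpecStalk ξ ≫ h) :=
    ⟨by rw [Category.assoc, he, ← Category.assoc, hγ, Category.assoc]⟩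
  haveI : hsq.HasLift :=
    ((IsProper.eq_valuativeCriterion ▸ ‹IsProper g› :
      (ValuativeCriterion ⊓ @QuasiCompact ⊓ @QuasiSeparated ⊓ @LocallyOfFiniteType) g).1.1.1).existence
      { R := O, K := K, i₁ := γ ≫ e, i₂ := Y.fromSpecStalk ξ ≫ h, commSq := hsq }
  let l := hsq.lift
  have hl : ν ≫ l = γ ≫ e := hsq.fac_left
  refine ⟨(FEt.restrict l).obj W, ?_⟩
  -- the punctured local scheme is the generic point
  let P := pullback V.ι (Y.fromSpecStalk ξ)
  let p₁ : P ⟶ (V : Scheme.{u}) := pullback.fst _ _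
  let p₂ : P ⟶ Spec O := pullback.snd _ _
  haveI : IsOpenImmersion ν := by
    obtain ⟨π, hπ⟩ := IsDiscreteValuationRing.exists_irreducible O
    haveI : IsLocalization.Away π K := by
      refine (IsLocalization.iff_of_le_of_exists_dvd (Submonoid.powers π) (nonZeroDivisors O) ?_ fun n hn => ?_).2
        (inferInstanceAs (IsFractionRing O (FractionRing O)))
      · exact Submonoid.powers_le.2 (mem_nonZeroDivisors_of_ne_zero hπ.ne_zero)
      · obtain ⟨i, v, rfl⟩ :=
          IsDiscreteValuationRing.eq_unit_mul_pow_irreducible (nonZeroDivisors.ne_zero hn) hπ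
        exact ⟨π ^ i, ⟨i, rfl⟩, (Units.mul_left_dvd).2 dvd_rfl⟩
    exact IsOpenImmersion.of_isLocalization (R := O) (S := K) π
  have hr : Set.range p₂ ⊆ Set.range ν := by
    rintro _ ⟨q, rfl⟩
    have hqV : Y.fromSpecStalk ξ (p₂ q) ∈ V := by
      have : Y.fromSpecStalk ξ (p₂ q) = V.ι (p₁ q) := by
        rw [← Scheme.Hom.comp_apply, ← Scheme.Hom.comp_apply]
        exact congrArg (fun f : P ⟶ Y => f q) pullback.condition.symm
      rw [this]
      exact (p₁ q).2
    refine ⟨IsLocalRing.closedPoint K, (hν _).trans (PrimeSpectrum.ext ?_).symm⟩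
    by_contra hne
    have hm : (p₂ q).asIdeal = IsLocalRing.maximalIdeal O :=
      IsLocalRing.eq_maximalIdeal ((p₂ q).isPrime.isMaximal hne)
    have : p₂ q = IsLocalRing.closedPoint O := PrimeSpectrum.ext hm
    rw [this, Scheme.fromSpecStalk_closedPoint] at hqV
    exact hξ hqV
  let t : P ⟶ Spec (CommRingCat.of K) := IsOpenImmersion.lift ν p₂ hr
  have ht : t ≫ ν = p₂ := IsOpenImmersion.lift_fac _ _ _
  have hp : p₁ = t ≫ γ := by
    rw [← cancel_mono V.ι, Category.assoc, hγ, ← Category.assoc, ht]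
    exact pullback.condition
  have key : p₂ ≫ l = p₁ ≫ e := by
    rw [← ht, hp, Category.assoc, Category.assoc, hl]
  exact ⟨(Pur25.restrictComp p₂ l).symm.app W ≪≫ (MorphismProperty.Over.pullbackCongr key).app W ≪≫
    (Pur25.restrictComp p₁ e).app W⟩

/-- On a scheme with regular local rings, restriction to a dense open is fully faithful. -/
theorem fullFaithful_of_regularScheme {Y : Scheme.{u}} [IsLocallyNoetherian Y]
    (hY : ∀ y : Y, IsRegularLocalRing (Y.presheaf.stalk y)) (V : Y.Opens) (hV : Dense (V : Set Y)) :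
    (FEt.restrict V.ι).Full ∧ (FEt.restrict V.ι).Faithful :=
  fullFaithful_of_regular V hV fun y _ => hY y

end Groth.Agent.PurityExt25
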