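import Groth.Agent.Lib.LimH13.ModelGlue
import Groth.Prelude.Def_FEt

/-!
# Gluing finite étale covers over two opens
-/

set_option autoImplicit false
set_option backward.isDefEq.respectTransparency false
set_option backward.isDefEq.respectTransparency.types false
universe u

open CategoryTheory CategoryTheory.Limits AlgebraicGeometry TopologicalSpace

namespace Groth.Agent.PurityExt25

open Groth.Agent.LimH13

/-- Finite étale covers of two opens that agree on the intersection glue. -/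
theorem exists_glue {X : Scheme.{u}} (G B : X.Opens) {E P W : Scheme.{u}}
    (e : E ⟶ (G : Scheme.{u})) (p : P ⟶ (B : Scheme.{u})) (jE : W ⟶ E) (jP : W ⟶ P)
    [IsOpenImmersion jE] [IsOpenImmersion jP] [IsFinite e] [Etale e] [IsFinite p] [Etale p]
    (hw : jE ≫ e ≫ G.ι = jP ≫ p ≫ B.ι)
    (hE : ∀ y : E, (e ≫ G.ι) y ∈ B → y ∈ Set.range jE)
    (hP : ∀ y : P, (p ≫ B.ι) y ∈ G → y ∈ Set.range jP) :
    ∃ (Z : Scheme.{u}) (h : Z ⟶ ((G ⊔ B : X.Opens) : Scheme.{u})) (inE : E ⟶ Z),
      IsFinite h ∧ Etale h ∧ IsPullback inE e h (X.homOfLE le_sup_left) := by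
  let Z := pushout jE jP
  let inE : E ⟶ Z := pushout.inl jE jP
  let inP : P ⟶ Z := pushout.inr jE jP
  let z : Z ⟶ X := pushout.desc (e ≫ G.ι) (p ≫ B.ι) hw
  have hzE : inE ≫ z = e ≫ G.ι := pushout.inl_desc _ _ _
  have hzP : inP ≫ z = p ≫ B.ι := pushout.inr_desc _ _ _
  have hcov : ∀ y : Z, (∃ a, inE a = y) ∨ ∃ b, inP b = y := fun y =>
    (range_inl_sup_range_inr jE jP).ge (show y ∈ (⊤ : Z.Opens) from trivial)
  have hz : Set.range z ⊆ Set.range ((G ⊔ B : X.Opens)).ι := by
    rintro _ ⟨y, rfl⟩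
    rw [Scheme.Opens.range_ι]
    rcases hcov y with ⟨a, rfl⟩ | ⟨b, rfl⟩
    · rw [← Scheme.Hom.comp_apply, hzE]
      exact Or.inl (e a).2
    · rw [← Scheme.Hom.comp_apply, hzP]
      exact Or.inr (p b).2
  let h : Z ⟶ ((G ⊔ B : X.Opens) : Scheme.{u}) := IsOpenImmersion.lift _ z hz
  have hh : h ≫ (G ⊔ B : X.Opens).ι = z := IsOpenImmersion.lift_fac _ _ _
  let lG : (G : Scheme.{u}) ⟶ ((G ⊔ B : X.Opens) : Scheme.{u}) := X.homOfLE le_sup_left
  let lB : (B : Scheme.{u}) ⟶ ((G ⊔ B : X.Opens) : Scheme.{u}) := X.homOfLE le_sup_right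
  have hpt : ∀ y : Z, (G ⊔ B : X.Opens).ι (h y) = z y := fun y => by
    rw [← Scheme.Hom.comp_apply, hh]
  have hlG : ∀ x : (G : Scheme.{u}), (G ⊔ B : X.Opens).ι (lG x) = G.ι x := fun x => by
    rw [← Scheme.Hom.comp_apply, Scheme.homOfLE_ι]
  have hlB : ∀ x : (B : Scheme.{u}), (G ⊔ B : X.Opens).ι (lB x) = B.ι x := fun x => by
    rw [← Scheme.Hom.comp_apply, Scheme.homOfLE_ι]
  have hlE : IsPullback e inE lG h := by
    refine IsOpenImmersion.isPullback e inE lG h ?_ ?_
    · rw [← cancel_mono (G ⊔ B : X.Opens).ι, Category.assoc, hh, hzE, Category.assoc,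
        Scheme.homOfLE_ι]
    · ext y
      show h y ∈ Set.range lG ↔ y ∈ Set.range inE
      constructor
      · rintro ⟨x, hx⟩
        have hG : z y ∈ G := by
          rw [← hpt, ← hx, hlG]
          exact x.2
        rcases hcov y with ⟨a, rfl⟩ | ⟨b, rfl⟩
        · exact ⟨a, rfl⟩
        · rw [← Scheme.Hom.comp_apply, hzP] at hG
          obtain ⟨w, rfl⟩ := hP b hG
          exact ⟨jE w, by rw [← Scheme.Hom.comp_apply, ← Scheme.Hom.comp_apply, pushout.condition]⟩
      · rintro ⟨a, rfl⟩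
        refine ⟨e a, (G ⊔ B : X.Opens).ι.isOpenEmbedding.injective ?_⟩
        rw [hpt, hlG, ← Scheme.Hom.comp_apply inE, hzE]
        rfl
  have hlP : IsPullback p inP lB h := by
    refine IsOpenImmersion.isPullback p inP lB h ?_ ?_
    · rw [← cancel_mono (G ⊔ B : X.Opens).ι, Category.assoc, hh, hzP, Category.assoc,
        Scheme.homOfLE_ι]
    · ext y
      show h y ∈ Set.range lB ↔ y ∈ Set.range inP
      constructor
      · rintro ⟨x, hx⟩
        have hB : z y ∈ B := by
          rw [← hpt, ← hx, hlB]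
          exact x.2
        rcases hcov y with ⟨a, rfl⟩ | ⟨b, rfl⟩
        · rw [← Scheme.Hom.comp_apply, hzE] at hB
          obtain ⟨w, rfl⟩ := hE a hB
          exact ⟨jP w, by rw [← Scheme.Hom.comp_apply, ← Scheme.Hom.comp_apply, pushout.condition]⟩
        · exact ⟨b, rfl⟩
      · rintro ⟨b, rfl⟩
        refine ⟨p b, (G ⊔ B : X.Opens).ι.isOpenEmbedding.injective ?_⟩
        rw [hpt, hlB, ← Scheme.Hom.comp_apply inP, hzP]
        rfl
  have key : ∀ (Q : MorphismProperty Scheme.{u}) [IsZariskiLocalAtTarget Q], Q e → Q p → Q h := by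
    intro Q _ he hp
    rw [IsZariskiLocalAtTarget.iff_of_iSup_eq_top (P := Q)
      (fun b : Bool => cond b lG.opensRange lB.opensRange) (by
        rw [iSup_bool_eq]
        refine eq_top_iff.2 fun y _ => ?_
        rcases (Opens.mem_sup.1 y.2) with hy | hy
        · exact Or.inl ⟨⟨y.1, hy⟩, (G ⊔ B : X.Opens).ι.isOpenEmbedding.injective (hlG _)⟩
        · exact Or.inr ⟨⟨y.1, hy⟩, (G ⊔ B : X.Opens).ι.isOpenEmbedding.injective (hlB _)⟩)]
    intro b
    cases b
    · refine (MorphismProperty.arrow_mk_iso_iff Q (morphismRestrictOpensRange h lB)).2 ?_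
      rw [← hlP.flip.isoPullback_inv_snd]
      exact (Q.cancel_left_of_respectsIso _ _).2 hp
    · refine (MorphismProperty.arrow_mk_iso_iff Q (morphismRestrictOpensRange h lG)).2 ?_
      rw [← hlE.flip.isoPullback_inv_snd]
      exact (Q.cancel_left_of_respectsIso _ _).2 he
  exact ⟨Z, h, inE, key @IsFinite inferInstance inferInstance, key @Etale inferInstance inferInstance,
    hlE.flip⟩

end Groth.Agent.PurityExt25
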